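import Mathlib
import Cfsg.Agent.ExtremelyPrim.Factor
import Cfsg.Agent.ClassGraph.Split

/-!
Elementary reduction tools for primitive groups with a non-abelian minimal normal subgroup.
-/

set_option autoImplicit false

namespace Cfsg.Agent.PrimReduce

open MulAction Subgroup
open Cfsg.Agent.ExtremelyPrim (cj mem_cj cj_one cj_cj conj_mem_cj exists_of_mem_cj card_cj)

section action

variable {G Ω : Type*} [Group G] [MulAction G Ω]

/-- A normal subgroup in a point stabiliser is trivial. -/
theorem normal_le_stab [FaithfulSMul G Ω] [IsPretransitive G Ω] {K : Subgroup G} [K.Normal] {a : Ω}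
    (h : K ≤ stabilizer G a) : K = ⊥ := by
  refine le_bot_iff.mp fun k hk => mem_bot.mpr (eq_of_smul_eq_smul fun y : Ω => ?_)
  obtain ⟨g, rfl⟩ := exists_smul_eq G a y
  have hm : g⁻¹ * k * g ∈ K := by simpa using (inferInstance : K.Normal).conj_mem k hk g⁻¹
  have := mem_stabilizer_iff.mp (h hm)
  rw [mul_smul, mul_smul, inv_smul_eq_iff] at this
  rw [one_smul, this]

/-- Non-trivial normal subgroups of primitive groups are transitive. -/
theorem transitive_of_normal [FaithfulSMul G Ω] [Nontrivial Ω] (hprim : IsPreprimitive G Ω)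
    {N : Subgroup G} [N.Normal] (hN : N ≠ ⊥) (a b : Ω) : ∃ n ∈ N, n • a = b := by
  haveI := hprim
  have hco : IsCoatom (stabilizer G a) := IsPreprimitive.isCoatom_stabilizer_of_isPreprimitive G a
  have htop : stabilizer G a ⊔ N = ⊤ := by
    rcases hco.le_iff.mp (le_sup_left : stabilizer G a ≤ stabilizer G a ⊔ N) with e | e
    · exact e
    · exact absurd (normal_le_stab (e ▸ le_sup_right)) hN
  obtain ⟨g, rfl⟩ := exists_smul_eq G a b
  have hg : g ∈ N ⊔ stabilizer G a := by rw [sup_comm, htop]; exact mem_top g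
  obtain ⟨n, hn, h, hh, rfl⟩ := (mem_sup_of_normal_left (t := stabilizer G a)).mp hg
  exact ⟨n, hn, by rw [mul_smul, mem_stabilizer_iff.mp hh]⟩

/-- An element centralising a transitive subgroup and fixing a point is trivial. -/
theorem eq_one_of_commute_transitive [FaithfulSMul G Ω] {C : Subgroup G} {a : Ω}
    (htr : ∀ b : Ω, ∃ c ∈ C, c • a = b) {x : G} (hx : x • a = a)
    (hcomm : ∀ c ∈ C, c * x = x * c) : x = 1 := by
  refine eq_of_smul_eq_smul fun b : Ω => ?_
  obtain ⟨c, hc, rfl⟩ := htr b
  rw [smul_smul, ← hcomm c hc, mul_smul, hx, one_smul]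

/-- Regular normal abelian subgroups. -/
theorem stabilizer_eq_bot_of_abelian [FaithfulSMul G Ω] [Nontrivial Ω] (hprim : IsPreprimitive G Ω)
    {N : Subgroup G} [N.Normal] (hN : N ≠ ⊥) [IsMulCommutative N] (a : Ω) :
    stabilizer N a = ⊥ := by
  refine le_bot_iff.mp fun x hx => ?_
  have hx' : (x : G) • a = a := hx
  exact Subtype.ext (eq_one_of_commute_transitive (fun b => transitive_of_normal hprim hN a b) hx'
    fun c hc => congrArg Subtype.val (mul_comm' (⟨c, hc⟩ : N) x))

theorem isPretransitive_of_normal [FaithfulSMul G Ω] [Nontrivial Ω] (hprim : IsPreprimitive G Ω)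
    {N : Subgroup G} [N.Normal] (hN : N ≠ ⊥) : IsPretransitive N Ω :=
  ⟨fun a b => by
    obtain ⟨n, hn, h⟩ := transitive_of_normal hprim hN a b
    exact ⟨⟨n, hn⟩, h⟩⟩

end action

/-- A simple `p`-group is commutative. -/
theorem commutative_of_simple_pGroup {T : Type*} [Group T] [Finite T] (hs : IsSimpleGroup T)
    {p : ℕ} (hp : p.Prime) (h : IsPGroup p T) : ∀ a b : T, a * b = b * a := by
  haveI := Fact.mk hp
  haveI := hs.toNontrivial
  have hc : Subgroup.center T ≠ ⊥ := by
    have := h.center_nontrivial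
    exact (Subgroup.nontrivial_iff_ne_bot _).mp this
  rcases hs.eq_bot_or_eq_top_of_normal (Subgroup.center T) inferInstance with e | e
  · exact absurd e hc
  · intro a b
    have hb : b ∈ Subgroup.center T := e ▸ mem_top b
    exact (mem_center_iff.mp hb a)

end Cfsg.Agent.PrimReduce
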