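import Mathlib
import Cfsg.Agent.PrimReduce.Basic

/-!
The factors of a non-abelian minimal normal subgroup `N` and the complement `rest T` of a factor.
-/

set_option autoImplicit false

namespace Cfsg.Agent.PrimReduce

open MulAction Subgroup
open Cfsg.Agent.ExtremelyPrim (cj mem_cj cj_one cj_cj conj_mem_cj exists_of_mem_cj card_cj)

variable {G : Type*} [Group G]

/-- The hypotheses describing the simple factors of `N`. -/
structure Factors (N T : Subgroup G) : Prop where
  normal : N.Normal
  le : T ≤ N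
  simple : IsSimpleGroup T
  nonab : ¬ ∀ a b : T, a * b = b * a
  stable : ∀ n ∈ N, ∀ g, cj n (cj g T) = cj g T
  sup : N = ⨆ g, cj g T
  comm : ∀ g h, cj g T ≠ cj h T → ∀ a ∈ cj g T, ∀ b ∈ cj h T, a * b = b * a
  disj : ∀ g, cj g T ≠ T → T ⊓ cj g T = ⊥

theorem exists_factors [Finite G] {N : Subgroup G} (hN : Core.IsMinNormal N)
    (hna : ¬ IsMulCommutative N) : ∃ T, Factors N T := by
  obtain ⟨T, h1, h2, h3, h4, h5, h6, h7⟩ := ExtremelyPrim.exists_factor hN (fun h =>
    hna ⟨⟨fun a b => Subtype.ext (h a a.2 b b.2)⟩⟩)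
  exact ⟨T, hN.normal, h1, h2, h3, h4, h5, h6, h7⟩

/-- The product of the factors different from `T`. -/
def rest (T : Subgroup G) : Subgroup G := ⨆ g : {g : G // cj g T ≠ T}, cj g.1 T

variable {N T : Subgroup G}

theorem cj_le_rest {g : G} (hg : cj g T ≠ T) : cj g T ≤ rest T :=
  le_iSup (fun g : {g : G // cj g T ≠ T} => cj g.1 T) ⟨g, hg⟩

theorem Factors.cj_le (F : Factors N T) (g : G) : cj g T ≤ N := by
  rw [F.sup]
  exact le_iSup (fun g => cj g T) g

theorem Factors.rest_le (F : Factors N T) : rest T ≤ N := iSup_le fun g => F.cj_le g.1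

theorem Factors.rest_le_centralizer (F : Factors N T) :
    rest T ≤ centralizer (T : Set G) :=
  iSup_le fun g a ha => mem_centralizer_iff.mpr fun t ht =>
    F.comm 1 g.1 (by rw [cj_one]; exact Ne.symm g.2) t (by rw [cj_one]; exact ht) a ha

theorem Factors.commute (F : Factors N T) {t r : G} (ht : t ∈ T) (hr : r ∈ rest T) :
    t * r = r * t := mem_centralizer_iff.mp (F.rest_le_centralizer hr) t ht

theorem Factors.inf_rest (F : Factors N T) : T ⊓ rest T = ⊥ := by
  refine le_bot_iff.mp fun x hx => mem_bot.mpr ?_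
  haveI := F.simple
  have hc : (⟨x, hx.1⟩ : T) ∈ Subgroup.center T := mem_center_iff.mpr fun t =>
    Subtype.ext (F.commute t.2 hx.2)
  rcases F.simple.eq_bot_or_eq_top_of_normal (Subgroup.center T) inferInstance with e | e
  · rw [e, mem_bot] at hc
    exact congrArg Subtype.val hc
  · exact absurd (fun a b => mem_center_iff.mp (e ▸ mem_top b : b ∈ Subgroup.center T) a) F.nonab

theorem Factors.conj_mem_of_mem (F : Factors N T) {n t : G} (hn : n ∈ N) (ht : t ∈ T) :
    n * t * n⁻¹ ∈ T := by
  have := conj_mem_cj (g := n) (T := cj 1 T) (t := t) (by rw [cj_one]; exact ht)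
  rwa [F.stable n hn 1, cj_one] at this

theorem Factors.conj_mem_rest (F : Factors N T) {n r : G} (hn : n ∈ N) (hr : r ∈ rest T) :
    n * r * n⁻¹ ∈ rest T := by
  have hle : rest T ≤ (rest T).comap (MulAut.conj n).toMonoidHom := by
    refine iSup_le fun g a ha => mem_comap.mpr (cj_le_rest g.2 ?_)
    have := conj_mem_cj (g := n) ha
    rw [F.stable n hn g.1] at this
    simpa using this
  simpa using hle hr

theorem Factors.exists_mul (F : Factors N T) {n : G} (hn : n ∈ N) :
    ∃ t ∈ T, ∃ r ∈ rest T, n = t * r := by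
  have hle : N ≤ T ⊔ rest T := by
    conv_lhs => rw [F.sup]
    refine iSup_le fun g => ?_
    by_cases h : cj g T = T
    · rw [h]; exact le_sup_left
    · exact (cj_le_rest h).trans le_sup_right
  have hnorm : rest T ≤ normalizer ((T : Subgroup G) : Set G) :=
    F.rest_le_centralizer.trans (centralizer_le_normalizer _)
  have h1 : n ∈ ((T ⊔ rest T : Subgroup G) : Set G) := hle hn
  rw [Subgroup.coe_mul_of_right_le_normalizer_left T (rest T) hnorm] at h1
  obtain ⟨t, ht, r, hr, e⟩ := Set.mem_mul.mp h1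
  exact ⟨t, ht, r, hr, e.symm⟩

theorem Factors.orderOf_dvd (F : Factors N T) {t r : G} (ht : t ∈ T) (hr : r ∈ rest T) :
    orderOf r ∣ orderOf (t * r) := by
  apply orderOf_dvd_of_pow_eq_one
  have hc : Commute t r := F.commute ht hr
  have h := pow_orderOf_eq_one (t * r)
  rw [hc.mul_pow] at h
  set k := orderOf (t * r)
  have hr' : r ^ k = (t ^ k)⁻¹ := eq_inv_of_mul_eq_one_right h
  have hm : r ^ k ∈ T ⊓ rest T :=
    mem_inf.mpr ⟨by rw [hr']; exact T.inv_mem (T.pow_mem ht k), (rest T).pow_mem hr k⟩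
  rwa [F.inf_rest, mem_bot] at hm

theorem Factors.exists_other (F : Factors N T) (hTN : T ≠ N) : ∃ g, cj g T ≠ T := by
  by_contra h
  push Not at h
  refine hTN (le_antisymm F.le ?_)
  conv_lhs => rw [F.sup]
  exact iSup_le fun g => (h g).le

theorem Factors.not_pGroup [Finite G] (F : Factors N T) {p : ℕ} (hp : p.Prime) :
    ¬ IsPGroup p T := fun h => F.nonab (commutative_of_simple_pGroup F.simple hp h)

/-- The point stabiliser meets each factor trivially when it projects onto it. -/
theorem Factors.inf_eq_bot_or_le (F : Factors N T) {X : Subgroup G}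
    (hX : ∀ t ∈ T, ∃ r ∈ rest T, t * r ∈ X) : T ⊓ X = ⊥ ∨ T ≤ X := by
  haveI hs := F.simple
  have hnor : (X.subgroupOf T).Normal := ⟨fun x hx t => by
    rw [mem_subgroupOf] at hx ⊢
    obtain ⟨r, hr, hm⟩ := hX t t.2
    have h1 := X.mul_mem (X.mul_mem hm hx) (X.inv_mem hm)
    have h2 : (t : G) * r * (x : G) * ((t : G) * r)⁻¹ = ((t * x * t⁻¹ : T) : G) := by
      have hc : r * (x : G) = (x : G) * r := (F.commute x.2 hr).symm
      rw [Subgroup.coe_mul, Subgroup.coe_mul, Subgroup.coe_inv]
      rw [mul_assoc (t : G) r, hc]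
      group
    rwa [h2] at h1⟩
  rcases hs.eq_bot_or_eq_top_of_normal _ hnor with e | e
  · left
    rw [inf_comm]
    exact disjoint_iff.mp (subgroupOf_eq_bot.mp e)
  · exact Or.inr (subgroupOf_eq_top.mp e)

end Cfsg.Agent.PrimReduce
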