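import Mathlib
import Cfsg.Prelude.Def_Transfer
import Cfsg.Agent.PrimReduce.Socle

/-!
Primitive groups all of whose derangements have `p`-power order are affine or almost simple.
-/

set_option autoImplicit false

namespace Cfsg.Agent.PrimReduce

open MulAction Subgroup
open Cfsg.Agent.ExtremelyPrim (cj mem_cj cj_one cj_cj conj_mem_cj exists_of_mem_cj card_cj)

variable {G Ω : Type*} [Group G] [Finite G] [MulAction G Ω] [FaithfulSMul G Ω]

variable {p : ℕ}

/-- The derangements have `p`-power order. -/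
def DerP (G Ω : Type*) [Group G] [MulAction G Ω] (p : ℕ) : Prop :=
  ∀ g : G, (∀ ω : Ω, g • ω ≠ ω) → ∃ k : ℕ, orderOf g = p ^ k

theorem isPGroup_of_orderOf {X : Type*} [Group X] (h : ∀ x : X, ∃ k : ℕ, orderOf x = p ^ k) :
    IsPGroup p X := fun x => by
  obtain ⟨k, hk⟩ := h x
  exact ⟨k, hk ▸ pow_orderOf_eq_one x⟩

/-- A non-abelian minimal normal subgroup has trivial centralizer. -/
theorem centralizer_eq_bot [Nontrivial Ω] (hprim : IsPreprimitive G Ω) (hp : p.Prime)
    (hder : DerP G Ω p) {N T : Subgroup G} (F : Factors N T) :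
    centralizer (N : Set G) = ⊥ := by
  by_contra hC
  haveI := F.normal
  have ha : Nonempty Ω := inferInstance
  obtain ⟨a⟩ := ha
  have hN : N ≠ ⊥ := fun e => F.nonab fun x y => Subtype.ext (by
    have hx : (x : G) = 1 := mem_bot.mp (e ▸ F.le x.2)
    have hy : (y : G) = 1 := mem_bot.mp (e ▸ F.le y.2)
    simp [hx, hy])
  refine F.not_pGroup hp (isPGroup_of_orderOf fun x => ?_)
  rw [← Subgroup.orderOf_coe]
  rcases eq_or_ne (x : G) 1 with e | e
  · exact ⟨0, by rw [e, orderOf_one, pow_zero]⟩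
  refine hder _ fun b hb => e ?_
  exact eq_one_of_commute_transitive (fun c => transitive_of_normal hprim hC b c) hb
    fun c hc => (mem_centralizer_iff.mp hc x (F.le x.2)).symm

theorem normal_eq [Nontrivial Ω] (hprim : IsPreprimitive G Ω) (hp : p.Prime)
    (hder : DerP G Ω p) {N T : Subgroup G} (F : Factors N T) : T = N := by
  by_contra hTN
  haveI := F.normal
  haveI := hprim
  obtain ⟨a⟩ := (inferInstance : Nonempty Ω)
  have hN : N ≠ ⊥ := fun e => hTN (le_antisymm F.le (e ▸ bot_le))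
  have hTb : T ≠ ⊥ := fun e => F.nonab fun x y => Subtype.ext (by
    have hx : (x : G) = 1 := mem_bot.mp (e ▸ x.2)
    have hy : (y : G) = 1 := mem_bot.mp (e ▸ y.2)
    simp [hx, hy])
  set X : Subgroup G := N ⊓ stabilizer G a with hX
  set M : Subgroup G := (X ⊔ rest T) ⊓ T with hM
  have hXn : X ≤ normalizer ((rest T : Subgroup G) : Set G) := fun x hx =>
    mem_normalizer_iff.mpr fun r => ⟨fun hr => F.conj_mem_rest hx.1 hr, fun hr => by
      have := F.conj_mem_rest (N.inv_mem hx.1) hr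
      simpa [mul_assoc] using this⟩
  have hmemM : ∀ t, t ∈ M → ∃ r ∈ rest T, t * r ∈ X := by
    intro t ht
    have ht1 : t ∈ ((X ⊔ rest T : Subgroup G) : Set G) := ht.1
    rw [Subgroup.coe_mul_of_left_le_normalizer_right X (rest T) hXn] at ht1
    obtain ⟨x, hx, r, hr, e⟩ := Set.mem_mul.mp ht1
    refine ⟨r⁻¹, (rest T).inv_mem hr, ?_⟩
    rw [← e, mul_inv_cancel_right]
    exact hx
  by_cases hMT : T ≤ M
  · rcases F.inf_eq_bot_or_le (fun t ht => hmemM t (hMT ht)) with e | e
    · -- `T` consists of derangements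
      refine F.not_pGroup hp (isPGroup_of_orderOf fun x => ?_)
      rw [← Subgroup.orderOf_coe]
      rcases eq_or_ne (x : G) 1 with e' | e'
      · exact ⟨0, by rw [e', orderOf_one, pow_zero]⟩
      refine hder _ fun b hb => e' ?_
      obtain ⟨n, hn, rfl⟩ := transitive_of_normal hprim hN a b
      have h1 : n⁻¹ * x * n ∈ T ⊓ X := by
        have hT : n⁻¹ * (x : G) * n ∈ T := by
          simpa using F.conj_mem_of_mem (N.inv_mem hn) x.2
        refine ⟨hT, F.le hT, mem_stabilizer_iff.mpr ?_⟩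
        rw [mul_smul, mul_smul, hb, inv_smul_smul]
      rw [e, mem_bot] at h1
      calc (x : G) = n * (n⁻¹ * x * n) * n⁻¹ := by group
        _ = 1 := by rw [h1, mul_one, mul_inv_cancel]
    · -- `T` fixes a point
      refine hTb (le_bot_iff.mp ?_)
      have : N ≤ stabilizer G a := by
        have hT : T ≤ stabilizer G a := e.trans inf_le_right
        conv_lhs => rw [F.sup]
        refine iSup_le fun g y hy => ?_
        obtain ⟨b, hb⟩ : ∃ b, g⁻¹ • a = b := ⟨_, rfl⟩
        obtain ⟨n, hn, hn'⟩ := transitive_of_normal hprim hN a b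
        -- `g = h * n⁻¹` with `h` fixing `a`
        have hh : (g * n) • a = a := by rw [mul_smul, hn', ← hb, smul_inv_smul]
        obtain ⟨t, ht, rfl⟩ := exists_of_mem_cj hy
        have ht' : n⁻¹ * t * n ∈ T := by simpa using F.conj_mem_of_mem (N.inv_mem hn) ht
        have h2 : g * t * g⁻¹ = (g * n) * (n⁻¹ * t * n) * (g * n)⁻¹ := by group
        rw [mem_stabilizer_iff, h2, mul_smul, mul_smul, inv_smul_eq_iff.mpr hh.symm,
          mem_stabilizer_iff.mp (hT ht'), hh]
      exact (normal_le_stab this) ▸ F.le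
  · have hne : M.subgroupOf T ≠ ⊤ := fun e => hMT (subgroupOf_eq_top.mp e)
    obtain ⟨x, hx⟩ := ClassGraph.exists_forall_conj_notMem _ hne
    have hord : ∀ r ∈ rest T, ∃ k : ℕ, orderOf r = p ^ k := by
      intro r hr
      have hd : ∀ ω : Ω, ((x : G) * r) • ω ≠ ω := by
        intro b hb
        obtain ⟨n, hn, rfl⟩ := transitive_of_normal hprim hN a b
        obtain ⟨t, ht, s, hs, rfl⟩ := F.exists_mul hn
        have h1 : (t * s)⁻¹ * ((x : G) * r) * (t * s) ∈ stabilizer G a := by
          rw [mem_stabilizer_iff, mul_smul, mul_smul, hb, inv_smul_smul]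
        set u := (t * s)⁻¹ * ((x : G) * r) * (t * s) with hu
        have huN : u ∈ N := N.mul_mem (N.mul_mem (N.inv_mem hn)
          (N.mul_mem (F.le x.2) (F.rest_le hr))) hn
        have hsplit : u = (t⁻¹ * x * t) * (s⁻¹ * r * s) := by
          have c1 : r * t = t * r := (F.commute ht hr).symm
          have hxT : t⁻¹ * (x : G) * t ∈ T := T.mul_mem (T.mul_mem (T.inv_mem ht) x.2) ht
          have c2 : s⁻¹ * (t⁻¹ * x * t) = (t⁻¹ * x * t) * s⁻¹ :=
            (F.commute hxT ((rest T).inv_mem hs)).symm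
          calc u = s⁻¹ * t⁻¹ * x * (r * t) * s := by rw [hu]; group
            _ = (s⁻¹ * (t⁻¹ * x * t)) * r * s := by rw [c1]; group
            _ = (t⁻¹ * x * t) * (s⁻¹ * r * s) := by rw [c2]; group
        have hmem : t⁻¹ * (x : G) * t ∈ M := by
          refine ⟨?_, T.mul_mem (T.mul_mem (T.inv_mem ht) x.2) ht⟩
          have hr' : s⁻¹ * r * s ∈ rest T :=
            (rest T).mul_mem ((rest T).mul_mem ((rest T).inv_mem hs) hr) hs
          have : t⁻¹ * (x : G) * t = u * (s⁻¹ * r * s)⁻¹ := by rw [hsplit, mul_inv_cancel_right]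
          rw [this]
          exact (X ⊔ rest T).mul_mem (mem_sup_left ⟨huN, h1⟩)
            (mem_sup_right ((rest T).inv_mem hr'))
        refine hx ⟨t⁻¹, T.inv_mem ht⟩ (mem_subgroupOf.mpr ?_)
        simpa using hmem
      obtain ⟨k, hk⟩ := hder _ hd
      have h := F.orderOf_dvd x.2 hr
      rw [hk] at h
      obtain ⟨j, _, hj⟩ := (Nat.dvd_prime_pow hp).mp h
      exact ⟨j, hj⟩
    obtain ⟨g, hg⟩ := F.exists_other hTN
    refine F.not_pGroup hp (isPGroup_of_orderOf fun y => ?_)
    rw [← Subgroup.orderOf_coe]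
    obtain ⟨k, hk⟩ := hord _ (cj_le_rest hg (conj_mem_cj (g := g) y.2))
    refine ⟨k, ?_⟩
    rw [← hk]
    exact (SemiconjBy.conj_mk g (y : G)).orderOf_eq

theorem affine_or_almost_simple [Nontrivial Ω] (hprim : IsPreprimitive G Ω) (hp : p.Prime)
    (hder : DerP G Ω p) :
    (∃ (N : Subgroup G) (r : ℕ), r.Prime ∧ N.Normal ∧ Cfsg.IsElementaryAbelian r N ∧
      IsPretransitive N Ω ∧ ∀ a : Ω, stabilizer N a = ⊥) ∨
    (∃ T : Subgroup G, T.Normal ∧ IsSimpleGroup ↥T ∧ ¬ IsMulCommutative ↥T ∧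
      centralizer (T : Set G) = ⊥) := by
  haveI := hprim
  have hnt : Nontrivial G := by
    obtain ⟨a, b, hab⟩ := exists_pair_ne Ω
    obtain ⟨g, hg⟩ := exists_smul_eq G a b
    exact ⟨g, 1, fun e => hab (by rw [← hg, e, one_smul])⟩
  obtain ⟨N, hN⟩ := Core.exists_isMinNormal (G := G)
  haveI := hN.normal
  by_cases hab : IsMulCommutative N
  · obtain ⟨r, hr, hexp⟩ := hN.exists_prime_pow_eq_one
    exact Or.inl ⟨N, r, hr, hN.normal, ⟨hab, hexp⟩, isPretransitive_of_normal hprim hN.ne_bot,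
      fun a => stabilizer_eq_bot_of_abelian hprim hN.ne_bot a⟩
  · obtain ⟨T, F⟩ := exists_factors hN hab
    have e := normal_eq hprim hp hder F
    subst e
    exact Or.inr ⟨T, hN.normal, F.simple, hab, centralizer_eq_bot hprim hp hder F⟩

end Cfsg.Agent.PrimReduce
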