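import Mathlib
import Cfsg.Agent.PrimReduce.Derangement

/-!
Primitive groups with exactly two classes of derangements are almost simple or affine, and the
shape of the affine ones.
-/

set_option autoImplicit false

namespace Cfsg.Agent.PrimReduce

open MulAction Subgroup
open Cfsg.Agent.ExtremelyPrim (cj mem_cj cj_one cj_cj conj_mem_cj exists_of_mem_cj card_cj)

variable {G Ω : Type*} [Group G] [MulAction G Ω]

/-- An element without fixed points. -/
def Derang (Ω : Type*) {G : Type*} [Group G] [MulAction G Ω] (g : G) : Prop :=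
  ∀ ω : Ω, g • ω ≠ ω

/-- Exactly two classes of derangements. -/
def TwoCl (G Ω : Type*) [Group G] [MulAction G Ω] : Prop :=
  Nat.card {c : ConjClasses G // ∃ g : G, ConjClasses.mk g = c ∧ Derang Ω g} = 2

theorem TwoCl.three [Finite G] (h2 : TwoCl G Ω) {a b c : G} (ha : Derang Ω a) (hb : Derang Ω b)
    (hc : Derang Ω c) (hab : ¬ IsConj a b) (hac : ¬ IsConj a c) (hbc : ¬ IsConj b c) : False := by
  set S := {c : ConjClasses G // ∃ g : G, ConjClasses.mk g = c ∧ Derang Ω g}
  let f : Fin 3 → S :=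
    ![⟨_, a, rfl, ha⟩, ⟨_, b, rfl, hb⟩, ⟨_, c, rfl, hc⟩]
  have hf : Function.Injective f := by
    intro i j hij
    have e : ∀ {s t : S}, s = t → (s : ConjClasses G) = t := fun h => congrArg Subtype.val h
    have hij' := e hij
    fin_cases i <;> fin_cases j
    all_goals
      first
      | rfl
      | exact absurd (ConjClasses.mk_eq_mk_iff_isConj.mp hij') hab
      | exact absurd (ConjClasses.mk_eq_mk_iff_isConj.mp hij') hac
      | exact absurd (ConjClasses.mk_eq_mk_iff_isConj.mp hij') hbc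
      | exact absurd (ConjClasses.mk_eq_mk_iff_isConj.mp hij').symm hab
      | exact absurd (ConjClasses.mk_eq_mk_iff_isConj.mp hij').symm hac
      | exact absurd (ConjClasses.mk_eq_mk_iff_isConj.mp hij').symm hbc
  have h := Nat.card_le_card_of_injective f hf
  rw [Nat.card_fin, h2] at h
  omega

theorem not_isConj_of_orderOf {a b : G} (h : orderOf a ≠ orderOf b) : ¬ IsConj a b := fun hc => by
  obtain ⟨g, rfl⟩ := isConj_iff.mp hc
  exact h (SemiconjBy.conj_mk g a).orderOf_eq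

theorem derang_mul_of_coprime {x y : G} (hx : Derang Ω x) (hc : Commute x y)
    (hco : (orderOf y).Coprime (orderOf x)) : Derang Ω (x * y) := by
  intro b hb
  obtain ⟨m, hm⟩ := exists_pow_eq_self_of_coprime hco
  refine hx b ?_
  have h1 : (x * y) ^ (orderOf y) ∈ stabilizer G b := (stabilizer G b).pow_mem hb _
  rw [hc.mul_pow, pow_orderOf_eq_one, mul_one] at h1
  have h2 := (stabilizer G b).pow_mem h1 m
  rw [hm] at h2
  exact h2

theorem three_orders [Finite G] (h2 : TwoCl G Ω) {x y z : G} (hx : Derang Ω x) (hy : Derang Ω y)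
    (hc : Commute x z) {p q : ℕ} (hp : p.Prime) (hq : q.Prime) (hne : p ≠ q)
    (ox : orderOf x = p) (oy : orderOf y = q) (oz : orderOf z = q) : False := by
  have hco : (orderOf x).Coprime (orderOf z) := by
    rw [ox, oz]
    exact (Nat.coprime_primes hp hq).mpr hne
  have o := hc.orderOf_mul_eq_mul_orderOf_of_coprime hco
  rw [ox, oz] at o
  refine h2.three hx hy (derang_mul_of_coprime hx hc hco.symm) (not_isConj_of_orderOf ?_)
    (not_isConj_of_orderOf ?_) (not_isConj_of_orderOf ?_)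
  · rw [ox, oy]; exact hne
  · rw [ox, o]
    have := hq.two_le
    have := hp.pos
    nlinarith
  · rw [oy, o]
    have := hp.two_le
    have := hq.pos
    nlinarith

variable {N T : Subgroup G}

theorem Factors.exists_two_orders [Finite G] (F : Factors N T) :
    ∃ x ∈ T, ∃ y ∈ T, ∃ p q : ℕ, p.Prime ∧ q.Prime ∧ p ≠ q ∧ orderOf x = p ∧ orderOf y = q := by
  haveI := F.simple
  haveI := F.simple.toNontrivial
  have h1 : Nat.card T ≠ 1 := Finite.one_lt_card.ne'
  obtain ⟨p, hp, hpd⟩ := Nat.exists_prime_and_dvd h1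
  obtain ⟨q, hq, hqd, hne⟩ : ∃ q, q.Prime ∧ q ∣ Nat.card T ∧ p ≠ q := by
    by_contra h
    push Not at h
    refine F.not_pGroup hp ?_
    haveI := Fact.mk hp
    exact IsPGroup.iff_card.mpr ⟨_, Nat.eq_prime_pow_of_unique_prime_dvd Nat.card_pos.ne'
      fun {d} hd hdd => (h d hd hdd).symm⟩
  haveI := Fact.mk hp
  haveI := Fact.mk hq
  obtain ⟨x, hx⟩ := exists_prime_orderOf_dvd_card' p hpd
  obtain ⟨y, hy⟩ := exists_prime_orderOf_dvd_card' q hqd
  exact ⟨x, x.2, y, y.2, p, q, hp, hq, hne, by rw [Subgroup.orderOf_coe, hx],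
    by rw [Subgroup.orderOf_coe, hy]⟩

theorem Factors.unique (F : Factors N T) {t t' r r' : G} (ht : t ∈ T) (ht' : t' ∈ T)
    (hr : r ∈ rest T) (hr' : r' ∈ rest T) (e : t * r = t' * r') : t = t' ∧ r = r' := by
  have h1 : t'⁻¹ * t = r' * r⁻¹ := by
    calc t'⁻¹ * t = t'⁻¹ * (t * r) * r⁻¹ := by group
      _ = r' * r⁻¹ := by rw [e]; group
  have hm : t'⁻¹ * t ∈ T ⊓ rest T := mem_inf.mpr ⟨T.mul_mem (T.inv_mem ht') ht,
    by rw [h1]; exact (rest T).mul_mem hr' ((rest T).inv_mem hr)⟩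
  rw [F.inf_rest, mem_bot] at hm
  have : t = t' := (inv_mul_eq_one.mp hm).symm
  subst this
  exact ⟨rfl, mul_left_cancel e⟩

section split

variable [Finite G] [FaithfulSMul G Ω] [Nontrivial Ω]

/-- A factor of `N ≠ T` consists of derangements, or has an element `x` such that all `x * r`,
`r ∈ rest T`, are derangements. -/
theorem Factors.derangement_cases (hprim : IsPreprimitive G Ω) (F : Factors N T) (hTN : T ≠ N) :
    (∀ x ∈ T, x ≠ 1 → Derang Ω x) ∨ ∃ x ∈ T, ∀ r ∈ rest T, Derang Ω (x * r) := by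
  haveI := F.normal
  haveI := hprim
  obtain ⟨a⟩ := (inferInstance : Nonempty Ω)
  have hN : N ≠ ⊥ := fun e => hTN (le_antisymm F.le (e ▸ bot_le))
  set X : Subgroup G := N ⊓ stabilizer G a with hX
  set M : Subgroup G := (X ⊔ rest T) ⊓ T with hM
  have hXn : X ≤ normalizer ((rest T : Subgroup G) : Set G) := fun x hx =>
    mem_normalizer_iff.mpr fun r => ⟨fun hr => F.conj_mem_rest hx.1 hr, fun hr => by
      have := F.conj_mem_rest (N.inv_mem hx.1) hr
      simpa [mul_assoc] using this⟩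
  have hmemM : ∀ t, t ∈ M → ∃ r ∈ rest T, t * r ∈ X := by
    intro t ht
    have ht1 : t ∈ ((X ⊔ rest T : Subgroup G) : Set G) := ht.1
    rw [Subgroup.coe_mul_of_left_le_normalizer_right X (rest T) hXn] at ht1
    obtain ⟨x, hx, r, hr, e⟩ := Set.mem_mul.mp ht1
    refine ⟨r⁻¹, (rest T).inv_mem hr, ?_⟩
    rw [← e, mul_inv_cancel_right]
    exact hx
  by_cases hMT : T ≤ M
  · rcases F.inf_eq_bot_or_le (fun t ht => hmemM t (hMT ht)) with e | e
    · refine Or.inl fun x hxT e' b hb => e' ?_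
      obtain ⟨n, hn, rfl⟩ := transitive_of_normal hprim hN a b
      have h1 : n⁻¹ * x * n ∈ T ⊓ X := by
        have hT : n⁻¹ * x * n ∈ T := by
          simpa using F.conj_mem_of_mem (N.inv_mem hn) hxT
        refine ⟨hT, F.le hT, mem_stabilizer_iff.mpr ?_⟩
        rw [mul_smul, mul_smul, hb, inv_smul_smul]
      rw [e, mem_bot] at h1
      calc x = n * (n⁻¹ * x * n) * n⁻¹ := by group
        _ = 1 := by rw [h1, mul_one, mul_inv_cancel]
    · exfalso
      have : N ≤ stabilizer G a := by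
        have hT : T ≤ stabilizer G a := e.trans inf_le_right
        conv_lhs => rw [F.sup]
        refine iSup_le fun g y hy => ?_
        obtain ⟨b, hb⟩ : ∃ b, g⁻¹ • a = b := ⟨_, rfl⟩
        obtain ⟨n, hn, hn'⟩ := transitive_of_normal hprim hN a b
        have hh : (g * n) • a = a := by rw [mul_smul, hn', ← hb, smul_inv_smul]
        obtain ⟨t, ht, rfl⟩ := exists_of_mem_cj hy
        have ht' : n⁻¹ * t * n ∈ T := by simpa using F.conj_mem_of_mem (N.inv_mem hn) ht
        have h2 : g * t * g⁻¹ = (g * n) * (n⁻¹ * t * n) * (g * n)⁻¹ := by group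
        rw [mem_stabilizer_iff, h2, mul_smul, mul_smul, inv_smul_eq_iff.mpr hh.symm,
          mem_stabilizer_iff.mp (hT ht'), hh]
      exact hN (normal_le_stab this)
  · have hne : M.subgroupOf T ≠ ⊤ := fun e => hMT (subgroupOf_eq_top.mp e)
    obtain ⟨x, hx⟩ := ClassGraph.exists_forall_conj_notMem _ hne
    refine Or.inr ⟨x, x.2, fun r hr b hb => ?_⟩
    obtain ⟨n, hn, rfl⟩ := transitive_of_normal hprim hN a b
    obtain ⟨t, ht, s, hs, rfl⟩ := F.exists_mul hn
    have h1 : (t * s)⁻¹ * ((x : G) * r) * (t * s) ∈ stabilizer G a := by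
      rw [mem_stabilizer_iff, mul_smul, mul_smul, hb, inv_smul_smul]
    set u := (t * s)⁻¹ * ((x : G) * r) * (t * s) with hu
    have huN : u ∈ N := N.mul_mem (N.mul_mem (N.inv_mem hn)
      (N.mul_mem (F.le x.2) (F.rest_le hr))) hn
    have hsplit : u = (t⁻¹ * x * t) * (s⁻¹ * r * s) := by
      have c1 : r * t = t * r := (F.commute ht hr).symm
      have hxT : t⁻¹ * (x : G) * t ∈ T := T.mul_mem (T.mul_mem (T.inv_mem ht) x.2) ht
      have c2 : s⁻¹ * (t⁻¹ * x * t) = (t⁻¹ * x * t) * s⁻¹ :=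
        (F.commute hxT ((rest T).inv_mem hs)).symm
      calc u = s⁻¹ * t⁻¹ * x * (r * t) * s := by rw [hu]; group
        _ = (s⁻¹ * (t⁻¹ * x * t)) * r * s := by rw [c1]; group
        _ = (t⁻¹ * x * t) * (s⁻¹ * r * s) := by rw [c2]; group
    have hmem : t⁻¹ * (x : G) * t ∈ M := by
      refine ⟨?_, T.mul_mem (T.mul_mem (T.inv_mem ht) x.2) ht⟩
      have hr' : s⁻¹ * r * s ∈ rest T :=
        (rest T).mul_mem ((rest T).mul_mem ((rest T).inv_mem hs) hr) hs
      have : t⁻¹ * (x : G) * t = u * (s⁻¹ * r * s)⁻¹ := by rw [hsplit, mul_inv_cancel_right]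
      rw [this]
      exact (X ⊔ rest T).mul_mem (mem_sup_left ⟨huN, h1⟩)
        (mem_sup_right ((rest T).inv_mem hr'))
    refine hx ⟨t⁻¹, T.inv_mem ht⟩ (mem_subgroupOf.mpr ?_)
    simpa using hmem

theorem not_three_classes_factors (h2 : TwoCl G Ω) (hprim : IsPreprimitive G Ω) (F : Factors N T)
    (hTN : T ≠ N) : False := by
  obtain ⟨g, hg⟩ := F.exists_other hTN
  obtain ⟨x₀, hx₀, y₀, hy₀, p, q, hp, hq, hne, ox₀, oy₀⟩ := F.exists_two_orders
  have ho : ∀ y : G, orderOf (g * y * g⁻¹) = orderOf y := fun y =>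
    ((SemiconjBy.conj_mk g y).orderOf_eq).symm
  rcases F.derangement_cases hprim hTN with h | ⟨x, hx, hd⟩
  · have h0 : x₀ ≠ 1 := fun e => hp.ne_one (by rw [← ox₀, e, orderOf_one])
    have h1 : y₀ ≠ 1 := fun e => hq.ne_one (by rw [← oy₀, e, orderOf_one])
    exact three_orders h2 (h _ hx₀ h0) (h _ hy₀ h1)
      (F.commute hx₀ (cj_le_rest hg (conj_mem_cj (g := g) hy₀))) hp hq hne ox₀ oy₀
      (by rw [ho, oy₀])
  · have hx1 : x ≠ 1 := fun e => by
      obtain ⟨a⟩ := (inferInstance : Nonempty Ω)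
      exact hd 1 (rest T).one_mem a (by rw [e, one_mul, one_smul])
    obtain ⟨y, hy, hy1, hyo⟩ : ∃ y ∈ T, y ≠ 1 ∧ orderOf y ≠ orderOf x := by
      by_cases e : orderOf x = p
      · exact ⟨y₀, hy₀, fun e' => hq.ne_one (by rw [← oy₀, e', orderOf_one]), by
          rw [oy₀, e]; exact hne.symm⟩
      · exact ⟨x₀, hx₀, fun e' => hp.ne_one (by rw [← ox₀, e', orderOf_one]), by
          rw [ox₀]; exact Ne.symm e⟩
    have hx' : g * x * g⁻¹ ∈ rest T := cj_le_rest hg (conj_mem_cj (g := g) hx)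
    have hy' : g * y * g⁻¹ ∈ rest T := cj_le_rest hg (conj_mem_cj (g := g) hy)
    have hne1 : ∀ z : G, z ≠ 1 → g * z * g⁻¹ ≠ 1 := fun z hz e => hz (conj_eq_one_iff.mp e)
    have supp : ∀ w, w ∈ rest T → w ≠ 1 → ¬ IsConj x (x * w) := by
      intro w hw hw1 hc
      obtain ⟨c, hc⟩ := isConj_iff.mp hc
      have hm : x * w ∈ cj c T := hc ▸ conj_mem_cj (g := c) hx
      by_cases e : cj c T = T
      · rw [e] at hm
        exact hw1 (F.unique hx hm hw (rest T).one_mem (by rw [mul_one])).2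
      · exact hx1 (F.unique hx T.one_mem hw (cj_le_rest e hm) (by rw [one_mul])).1
    refine h2.three (hd 1 (rest T).one_mem) (hd _ hx') (hd _ hy') ?_ ?_ ?_
    · rw [mul_one]; exact supp _ hx' (hne1 _ hx1)
    · rw [mul_one]; exact supp _ hy' (hne1 _ hy1)
    · intro hconj
      obtain ⟨c, hc⟩ := isConj_iff.mp hconj.symm
      have hA : c * x * c⁻¹ ∈ cj c T := conj_mem_cj (g := c) hx
      have hB : c * (g * y * g⁻¹) * c⁻¹ ∈ cj (c * g) T := by
        rw [← cj_cj]
        exact conj_mem_cj (g := c) (conj_mem_cj (g := g) hy)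
      have hoB : orderOf (c * (g * y * g⁻¹) * c⁻¹) = orderOf y := by
        rw [← (SemiconjBy.conj_mk c (g * y * g⁻¹)).orderOf_eq, ho]
      have hsplit : c * (x * (g * y * g⁻¹)) * c⁻¹
          = c * x * c⁻¹ * (c * (g * y * g⁻¹) * c⁻¹) := by group
      rw [hsplit] at hc
      have hcc : c * x * c⁻¹ * (c * (g * y * g⁻¹) * c⁻¹)
          = c * (g * y * g⁻¹) * c⁻¹ * (c * x * c⁻¹) := by
        rw [← hsplit]
        have := (F.commute hx hy')
        rw [this]; group
      by_cases e : cj c T = T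
      · by_cases e' : cj (c * g) T = T
        · refine hg ?_
          have h1 : cj c (cj g T) = cj c T := by rw [cj_cj, e', e]
          have := congrArg (cj c⁻¹) h1
          simpa [cj_cj, cj_one] using this
        · have := (F.unique (e ▸ hA) hx (cj_le_rest e' hB) hx' hc).2
          rw [this, ho] at hoB
          exact hyo hoB.symm
      · by_cases e' : cj (c * g) T = T
        · rw [hcc] at hc
          have := (F.unique (e' ▸ hB) hx (cj_le_rest e hA) hx' hc).1
          rw [this] at hoB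
          exact hyo hoB.symm
        · exact hx1 (F.unique T.one_mem hx
            ((rest T).mul_mem (cj_le_rest e hA) (cj_le_rest e' hB)) hx' (by rw [one_mul, hc])).1.symm

theorem exists_abelian_normal (h2 : TwoCl G Ω) (hprim : IsPreprimitive G Ω)
    (hnas : ¬ ∃ T : Subgroup G, T.Normal ∧ IsSimpleGroup T ∧ ¬ IsMulCommutative T ∧
      centralizer (T : Set G) = ⊥) :
    ∃ K : Subgroup G, K.Normal ∧ K ≠ ⊥ ∧ IsMulCommutative K := by
  haveI := hprim
  haveI : Nontrivial G := by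
    obtain ⟨a, b, hab⟩ := exists_pair_ne Ω
    obtain ⟨g, hg⟩ := exists_smul_eq G a b
    exact ⟨g, 1, fun e => hab (by rw [← hg, e, one_smul])⟩
  obtain ⟨K, hK⟩ := Core.exists_isMinNormal (G := G)
  haveI := hK.normal
  by_cases hab : IsMulCommutative K
  · exact ⟨K, hK.normal, hK.ne_bot, hab⟩
  exfalso
  obtain ⟨T, F⟩ := exists_factors hK hab
  by_cases hC : centralizer (K : Set G) = ⊥
  · by_cases hTN : T = K
    · subst hTN
      exact hnas ⟨T, hK.normal, F.simple, hab, hC⟩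
    · exact not_three_classes_factors h2 hprim F hTN
  obtain ⟨a⟩ := (inferInstance : Nonempty Ω)
  have trK := transitive_of_normal hprim hK.ne_bot
  have trC := transitive_of_normal hprim hC
  have regK : ∀ b : Ω, ∀ u ∈ K, u • b = b → u = 1 := fun b u hu hb =>
    eq_one_of_commute_transitive (trC b) hb fun c hc => (mem_centralizer_iff.mp hc u hu).symm
  have regC : ∀ b : Ω, ∀ u ∈ centralizer (K : Set G), u • b = b → u = 1 := fun b u hu hb =>
    eq_one_of_commute_transitive (trK b) hb fun c hc => mem_centralizer_iff.mp hu c hc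
  have bij : ∀ S : Subgroup G, (∀ b c : Ω, ∃ s ∈ S, s • b = c) →
      (∀ b : Ω, ∀ u ∈ S, u • b = b → u = 1) → Nat.card S = Nat.card Ω := fun S tr reg =>
    Nat.card_eq_of_bijective (fun s : S => (s : G) • a)
      ⟨fun s t e => Subtype.ext (by
        have h := reg a _ (S.mul_mem (S.inv_mem t.2) s.2) (by
          rw [mul_smul, show (s : G) • a = (t : G) • a from e, inv_smul_smul])
        exact (inv_mul_eq_one.mp h).symm),
      fun c => by obtain ⟨s, hs, e⟩ := tr a c; exact ⟨⟨s, hs⟩, e⟩⟩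
  obtain ⟨x, hx, y, hy, p, q, hp, hq, hne, ox, oy⟩ := F.exists_two_orders
  have hder : ∀ u ∈ K, u ≠ 1 → Derang Ω u := fun u hu h1 b hb => h1 (regK b u hu hb)
  have hqd : q ∣ Nat.card (centralizer (K : Set G)) := by
    rw [bij _ trC regC, ← bij _ trK regK, ← oy]
    exact Subgroup.orderOf_dvd_natCard _ (F.le hy)
  haveI := Fact.mk hq
  obtain ⟨m, hm⟩ := exists_prime_orderOf_dvd_card' q hqd
  exact three_orders h2 (hder x (F.le hx) fun e => hp.ne_one (by rw [← ox, e, orderOf_one]))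
    (hder y (F.le hy) fun e => hq.ne_one (by rw [← oy, e, orderOf_one]))
    (mem_centralizer_iff.mp m.2 x (F.le hx)) hp hq hne ox oy (by rw [Subgroup.orderOf_coe, hm])

end split

section affine

variable [Finite G] [FaithfulSMul G Ω] [Nontrivial Ω] {K : Subgroup G} [K.Normal]

theorem affine_two_classes (h2 : TwoCl G Ω) (hprim : IsPreprimitive G Ω) (hK : K ≠ ⊥)
    [IsMulCommutative K] [Finite Ω] (α : Ω) :
    ((∀ g : G, g ≠ 1 → Nat.card (fixedBy Ω g) ≤ 1) ∧ ¬ 2 ∣ Nat.card Ω ∧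
      2 * Nat.card (stabilizer G α) = Nat.card Ω - 1) ∨
    (IsMultiplyPretransitive G Ω 2 ∧ ∃ g : G, g ≠ 1 ∧ 2 ≤ Nat.card (fixedBy Ω g)) := by
  haveI := hprim
  have tr := transitive_of_normal hprim hK
  have comm : ∀ u ∈ K, ∀ v ∈ K, u * v = v * u := fun u hu v hv =>
    congrArg Subtype.val (mul_comm' (⟨u, hu⟩ : K) ⟨v, hv⟩)
  have reg : ∀ b : Ω, ∀ u ∈ K, u • b = b → u = 1 := fun b u hu hb =>
    eq_one_of_commute_transitive (tr b) hb fun c hc => comm c hc u hu
  have hderK : ∀ u ∈ K, u ≠ 1 → Derang Ω u := fun u hu h1 b hb => h1 (reg b u hu hb)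
  have hnm : ∀ u ∈ K, ∀ h : G, h * u * h⁻¹ ∈ K := fun u hu h => (inferInstance : K.Normal).conj_mem u hu h
  -- conjugation inside `K` is by a point stabiliser
  have conjK : ∀ u ∈ K, ∀ v : G, IsConj u v → ∃ h : G, h • α = α ∧ h * u * h⁻¹ = v := by
    intro u hu v huv
    obtain ⟨c, rfl⟩ := isConj_iff.mp huv
    obtain ⟨n, hn, hn'⟩ := tr α (c • α)
    refine ⟨n⁻¹ * c, by rw [mul_smul, ← hn', inv_smul_smul], ?_⟩
    calc n⁻¹ * c * u * (n⁻¹ * c)⁻¹ = n⁻¹ * (c * u * c⁻¹) * n := by group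
      _ = c * u * c⁻¹ := by rw [comm _ (K.inv_mem hn) _ (hnm u hu c), mul_assoc, inv_mul_cancel, mul_one]
  -- a coset `K * h` without derangements
  have surj_iff : ∀ (a : Ω) (h : G), h • a = a →
      (∀ v ∈ K, ¬ Derang Ω (v * h)) → ∀ u ∈ K, u * h = h * u → u = 1 := by
    intro a h ha hall u hu huh
    let f : K → K := fun w => ⟨(w : G)⁻¹ * (h * w * h⁻¹), K.mul_mem (K.inv_mem w.2) (hnm _ w.2 h)⟩
    have hsurj : Function.Surjective f := by
      intro v
      have := hall v v.2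
      simp only [Derang, not_forall, not_not] at this
      obtain ⟨b, hb⟩ := this
      obtain ⟨w, hw, rfl⟩ := tr b a
      refine ⟨⟨w, hw⟩, Subtype.ext ?_⟩
      have hm : w * (v : G) * (h * w⁻¹ * h⁻¹) ∈ K :=
        K.mul_mem (K.mul_mem hw v.2) (hnm _ (K.inv_mem hw) h)
      have h1 := reg _ _ hm (by
        have e1 : w * (v : G) * (h * w⁻¹ * h⁻¹) = w * ((v : G) * h) * w⁻¹ * h⁻¹ := by group
        rw [e1, mul_smul, inv_smul_eq_iff.mpr ha.symm, mul_smul, mul_smul, inv_smul_smul, hb])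
      change w⁻¹ * (h * w * h⁻¹) = (v : G)
      calc w⁻¹ * (h * w * h⁻¹)
          = w⁻¹ * (w * (v : G) * (h * w⁻¹ * h⁻¹)) * (h * w * h⁻¹) := by rw [h1, mul_one]
        _ = (v : G) := by group
    have hinj := Finite.injective_iff_surjective.mpr hsurj
    have := @hinj ⟨u, hu⟩ 1 (Subtype.ext (by
      change u⁻¹ * (h * u * h⁻¹) = (1 : G)⁻¹ * (h * 1 * h⁻¹)
      rw [← huh]; group))
    exact congrArg Subtype.val this
  have fix_comm : ∀ (a : Ω) (h u : G), u ∈ K → h • a = a → h • (u • a) = u • a → u * h = h * u := by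
    intro a h u hu ha hb
    have h1 := reg a _ (K.mul_mem (K.inv_mem hu) (hnm u hu h)) (by
      rw [mul_smul, mul_smul, mul_smul, inv_smul_eq_iff.mpr ha.symm, hb, inv_smul_smul])
    calc u * h = u * (u⁻¹ * (h * u * h⁻¹)) * h := by rw [h1, mul_one]
      _ = h * u := by group
  by_cases hcl : ∀ u ∈ K, ∀ v ∈ K, u ≠ 1 → v ≠ 1 → IsConj u v
  · -- one class in `K`
    refine Or.inr ⟨?_, ?_⟩
    · have key : ∀ b c : Ω, b ≠ α → c ≠ α → ∃ h : G, h • α = α ∧ h • b = c := by
        intro b c hb hc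
        obtain ⟨u, hu, rfl⟩ := tr α b
        obtain ⟨v, hv, rfl⟩ := tr α c
        have hu1 : u ≠ 1 := fun e => hb (by rw [e, one_smul])
        have hv1 : v ≠ 1 := fun e => hc (by rw [e, one_smul])
        obtain ⟨h, hh, e⟩ := conjK u hu v (hcl u hu v hv hu1 hv1)
        refine ⟨h, hh, ?_⟩
        rw [← e, mul_smul, mul_smul, inv_smul_eq_iff.mpr hh.symm]
      rw [is_two_pretransitive_iff]
      intro a b c d hab hcd
      obtain ⟨g₁, h1⟩ := exists_smul_eq G a α
      obtain ⟨g₂, h2'⟩ := exists_smul_eq G c α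
      obtain ⟨h, hh, e⟩ := key (g₁ • b) (g₂ • d)
        (fun e => hab (smul_left_cancel g₁ (h1.trans e.symm)))
        (fun e => hcd (smul_left_cancel g₂ (h2'.trans e.symm)))
      refine ⟨g₂⁻¹ * h * g₁, ?_, ?_⟩
      · rw [mul_smul, mul_smul, h1, hh, inv_smul_eq_iff, h2']
      · rw [mul_smul, mul_smul, e, inv_smul_smul]
    · obtain ⟨u, hu, hu1⟩ : ∃ u ∈ K, u ≠ 1 := by
        by_contra h
        push Not at h
        exact hK (le_bot_iff.mp fun x hx => mem_bot.mpr (h x hx))
      obtain ⟨g, hg, hgu⟩ : ∃ g : G, Derang Ω g ∧ ¬ IsConj u g := by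
        by_contra h
        push Not at h
        have : Subsingleton {c : ConjClasses G // ∃ g : G, ConjClasses.mk g = c ∧ Derang Ω g} :=
          ⟨fun ⟨_, g, hg, dg⟩ ⟨_, g', hg', dg'⟩ => Subtype.ext (by
            subst hg; subst hg'
            exact ConjClasses.mk_eq_mk_iff_isConj.mpr ((h g dg).symm.trans (h g' dg')))⟩
        have := Finite.card_le_one_iff_subsingleton.mpr this
        rw [h2] at this
        omega
      obtain ⟨v, hv, hv'⟩ := tr α (g • α)
      have hh : (v⁻¹ * g) • α = α := by rw [mul_smul, ← hv', inv_smul_smul]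
      have hg1 : g ≠ 1 := fun e => hg α (by rw [e, one_smul])
      have hne1 : v⁻¹ * g ≠ 1 := fun e => hgu (hcl u hu g ((inv_mul_eq_one.mp e) ▸ hv) hu1 hg1)
      obtain ⟨w, hw, hw1, hwc⟩ : ∃ w ∈ K, w ≠ 1 ∧ w * (v⁻¹ * g) = (v⁻¹ * g) * w := by
        by_contra h
        push Not at h
        let f : K → K := fun w => ⟨(w : G)⁻¹ * ((v⁻¹ * g) * w * (v⁻¹ * g)⁻¹),
          K.mul_mem (K.inv_mem w.2) (hnm _ w.2 _)⟩
        have hinj : Function.Injective f := by
          intro w w' e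
          have e' : (w : G)⁻¹ * ((v⁻¹ * g) * w * (v⁻¹ * g)⁻¹)
              = (w' : G)⁻¹ * ((v⁻¹ * g) * w' * (v⁻¹ * g)⁻¹) := congrArg Subtype.val e
          by_contra hne
          refine h ((w' : G) * (w : G)⁻¹) (K.mul_mem w'.2 (K.inv_mem w.2))
            (fun e1 => hne (Subtype.ext (mul_inv_eq_one.mp e1).symm)) ?_
          have e2 : (w' : G) * (w : G)⁻¹
              = (v⁻¹ * g) * w' * (v⁻¹ * g)⁻¹ * ((v⁻¹ * g) * w * (v⁻¹ * g)⁻¹)⁻¹ := by
            calc (w' : G) * (w : G)⁻¹ = w' * ((w : G)⁻¹ * ((v⁻¹ * g) * w * (v⁻¹ * g)⁻¹))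
                  * ((v⁻¹ * g) * w * (v⁻¹ * g)⁻¹)⁻¹ := by group
              _ = _ := by rw [e']; group
          conv_lhs => rw [e2]
          group
        obtain ⟨w, hw⟩ := Finite.injective_iff_surjective.mp hinj ⟨v, hv⟩
        have hw' : (w : G)⁻¹ * ((v⁻¹ * g) * w * (v⁻¹ * g)⁻¹) = v := congrArg Subtype.val hw
        refine hg ((w : G)⁻¹ • α) ?_
        have : g = (w : G)⁻¹ * (v⁻¹ * g) * w := by
          calc g = v * (v⁻¹ * g) := by group
            _ = (w : G)⁻¹ * ((v⁻¹ * g) * w * (v⁻¹ * g)⁻¹) * (v⁻¹ * g) := by rw [hw']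
            _ = _ := by group
        rw [this, mul_smul, mul_smul, smul_inv_smul, hh]
      refine ⟨v⁻¹ * g, hne1, ?_⟩
      have : Nontrivial (fixedBy Ω (v⁻¹ * g)) :=
        ⟨⟨α, hh⟩, ⟨w • α, by rw [mem_fixedBy, smul_smul, ← hwc, mul_smul, hh]⟩, fun e =>
          hderK w hw hw1 α (congrArg Subtype.val e).symm⟩
      exact Finite.one_lt_card
  · -- two classes in `K`
    push Not at hcl
    obtain ⟨u, hu, v, hv, hu1, hv1, huv⟩ := hcl
    have hall : ∀ g : G, Derang Ω g → IsConj u g ∨ IsConj v g := by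
      intro g hg
      by_contra h
      push Not at h
      exact h2.three (hderK u hu hu1) (hderK v hv hv1) hg huv h.1 h.2
    have hin : ∀ g : G, Derang Ω g → g ∈ K := by
      intro g hg
      rcases hall g hg with h | h <;> obtain ⟨c, rfl⟩ := isConj_iff.mp h
      · exact hnm u hu c
      · exact hnm v hv c
    have nofix : ∀ (a : Ω) (h w : G), h • a = a → h ≠ 1 → w ∈ K → w * h = h * w → w = 1 :=
      fun a h w ha h1 hw hc => surj_iff a h ha (fun x hx hd => h1 (reg a h (by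
        simpa using K.mul_mem (K.inv_mem hx) (hin _ hd)) ha)) w hw hc
    have hfix : ∀ g : G, g ≠ 1 → Nat.card (fixedBy Ω g) ≤ 1 := by
      intro g hg
      rw [Finite.card_le_one_iff_subsingleton]
      refine ⟨fun ⟨a, ha⟩ ⟨b, hb⟩ => Subtype.ext ?_⟩
      obtain ⟨w, hw, rfl⟩ := tr a b
      have : w = 1 := nofix a g w ha hg hw (fix_comm a g w hw ha hb)
      exact (by rw [this, one_smul] : w • a = a).symm
    let f : Option (stabilizer G α ⊕ stabilizer G α) → Ω := fun o =>
      o.elim α (Sum.elim (fun h => ((h : G) * u * (h : G)⁻¹) • α)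
        (fun h => ((h : G) * v * (h : G)⁻¹) • α))
    have pt : ∀ w ∈ K, ∀ w' ∈ K, w • α = w' • α → w = w' := fun w hw w' hw' e =>
      (inv_mul_eq_one.mp (reg α _ (K.mul_mem (K.inv_mem hw') hw)
        (by rw [mul_smul, e, inv_smul_smul]))).symm
    have hinj1 : ∀ w ∈ K, w ≠ 1 → ∀ h k : stabilizer G α,
        ((h : G) * w * (h : G)⁻¹) • α = ((k : G) * w * (k : G)⁻¹) • α → h = k := by
      intro w hw hw1 h k e
      have e' := pt _ (hnm w hw h) _ (hnm w hw k) e
      by_contra hne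
      refine hw1 (nofix α ((k : G)⁻¹ * h) w ((k⁻¹ * h).2)
        (fun e1 => hne (Subtype.ext (inv_mul_eq_one.mp e1).symm)) hw ?_)
      calc w * ((k : G)⁻¹ * h) = (k : G)⁻¹ * ((k : G) * w * (k : G)⁻¹) * h := by group
        _ = (k : G)⁻¹ * h * w := by rw [← e']; group
    have hne0 : ∀ w ∈ K, w ≠ 1 → ∀ h : G, (h * w * h⁻¹) • α ≠ α := fun w hw hw1 h e =>
      hw1 (conj_eq_one_iff.mp (reg α _ (hnm w hw h) e))
    have hbij : Function.Bijective f := by
      refine ⟨?_, fun b => ?_⟩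
      · rintro (_ | h | h) (_ | k | k) e <;> simp only [f, Option.elim, Sum.elim_inl, Sum.elim_inr] at e
        · rfl
        · exact absurd e.symm (hne0 u hu hu1 _)
        · exact absurd e.symm (hne0 v hv hv1 _)
        · exact absurd e (hne0 u hu hu1 _)
        · rw [hinj1 u hu hu1 h k e]
        · have e' := pt _ (hnm u hu (h : G)) _ (hnm v hv (k : G)) e
          have h2 : IsConj v ((h : G) * u * (h : G)⁻¹) := isConj_iff.mpr ⟨k, e'.symm⟩
          exact absurd ((isConj_iff.mpr ⟨(h : G), rfl⟩ : IsConj u _).trans h2.symm) huv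
        · exact absurd e (hne0 v hv hv1 _)
        · have e' := pt _ (hnm v hv (h : G)) _ (hnm u hu (k : G)) e
          have h2 : IsConj v ((k : G) * u * (k : G)⁻¹) := isConj_iff.mpr ⟨h, e'⟩
          exact absurd ((isConj_iff.mpr ⟨(k : G), rfl⟩ : IsConj u _).trans h2.symm) huv
        · rw [hinj1 v hv hv1 h k e]
      · obtain ⟨w, hw, rfl⟩ := tr α b
        rcases eq_or_ne w 1 with rfl | hw1
        · exact ⟨none, (one_smul G α).symm⟩
        rcases hall w (hderK w hw hw1) with h | h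
        · obtain ⟨c, hc, e⟩ := conjK u hu w h
          exact ⟨some (Sum.inl ⟨c, hc⟩), by simp [f, e]⟩
        · obtain ⟨c, hc, e⟩ := conjK v hv w h
          exact ⟨some (Sum.inr ⟨c, hc⟩), by simp [f, e]⟩
    have hcard := Nat.card_eq_of_bijective f hbij
    rw [Finite.card_option, Nat.card_sum] at hcard
    exact Or.inl ⟨hfix, by omega, by omega⟩

end affine

end Cfsg.Agent.PrimReduce
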